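import Cfsg.Agent.S0243
import Cfsg.Agent.S0280
import Cfsg.Agent.Prune
set_option linter.all false
prune_inst 0x7f00000000000000000000000000000000000000000000000000000000000000000000000000000000000000000000000000000000000000000000000000000000000000000000000000000000000000003fffffffffffffffffffffffffffbeffbdffffffff
open scoped Cfsg.Agent.FastGrp

/-!
# Orders of `PSL₂(q)`, `PSL₃(q)`, `PSU₃(q)` (helper680)
-/

set_option autoImplicit false

namespace Cfsg.Agent.H680.Six

open Cfsg

variable {F : Type*} [Field F] [Fintype F]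

theorem sub_eq (q a b : ℕ) : q ^ (a + b) - q ^ a = q ^ a * (q ^ b - 1) := by
  rw [pow_add, Nat.mul_sub, mul_one]

theorem psl3_card : Nat.gcd 3 (Fintype.card F - 1) * Nat.card (Matrix.ProjectiveSpecialLinearGroup (Fin 3) F) =
    Fintype.card F ^ 3 * ((Fintype.card F ^ 2 - 1) * (Fintype.card F ^ 3 - 1)) := by
  have h := S0243.result (F := F) rfl 3 (by omega)
  have hq : 1 < Fintype.card F := Fintype.one_lt_card
  generalize Fintype.card F = q at *
  rw [Fin.prod_univ_three] at h
  simp only [Fin.val_zero, Fin.val_one, Fin.val_two, pow_zero] at h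
  rw [show (3 : ℕ) = 1 + 2 by norm_num, sub_eq q 1 2, show (1 : ℕ) + 2 = 2 + 1 by norm_num, sub_eq q 2 1, pow_one] at h
  refine Nat.eq_of_mul_eq_mul_left (show 0 < q - 1 by omega) ?_
  rw [show (2 : ℕ) + 1 = 3 by norm_num] at h
  linarith

theorem psl2_card : Nat.gcd 2 (Fintype.card F - 1) * Nat.card (Matrix.ProjectiveSpecialLinearGroup (Fin 2) F) =
    Fintype.card F * (Fintype.card F ^ 2 - 1) := by
  have h := S0243.result (F := F) rfl 2 (by omega)
  have hq : 1 < Fintype.card F := Fintype.one_lt_card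
  generalize Fintype.card F = q at *
  rw [Fin.prod_univ_two] at h
  simp only [Fin.val_zero, Fin.val_one, pow_zero] at h
  rw [show (2 : ℕ) = 1 + 1 by norm_num, sub_eq q 1 1, pow_one] at h
  refine Nat.eq_of_mul_eq_mul_left (show 0 < q - 1 by omega) ?_
  rw [show (1 : ℕ) + 1 = 2 by norm_num] at h
  linarith

theorem psu3_card {q : ℕ} (hF : Fintype.card F = q ^ 2) :
    Nat.gcd 3 (q + 1) * Nat.card (PSU 3 F q) = q ^ 3 * ((q ^ 2 - 1) * (q ^ 3 + 1)) := by
  have h := S0280.result hF 3 (by omega)
  have h4 : (∏ x ∈ Finset.range 3, if Even x then q ^ (x + 1) + 1 else q ^ (x + 1) - 1) =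
      (q + 1) * (q ^ 2 - 1) * (q ^ 3 + 1) := by
    simp only [Finset.prod_range_succ, Finset.prod_range_zero]
    norm_num [Nat.even_iff]
  rw [h4] at h
  refine Nat.eq_of_mul_eq_mul_left (show 0 < q + 1 by omega) ?_
  norm_num at h
  linarith

end Cfsg.Agent.H680.Six

private theorem dce_1fb5ce67287c : _root_.True := by
  try have : _root_.True := by simp only [_root_.Matrix.ProjectiveSpecialLinearGroup.congr_simp]
  exact _root_.True.intro
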